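import Groth.Agent.ChevGen.Core
import Groth.Agent.S9203
import Groth.Agent.S0440
import Mathlib.AlgebraicGeometry.AffineTransitionLimit
import Mathlib.AlgebraicGeometry.AffineSpace
import Mathlib.AlgebraicGeometry.Morphisms.Proper
import Mathlib.AlgebraicGeometry.Morphisms.Integral
import Mathlib.Order.Zorn

/-!
# Chevalley's theorem: the image of an affine scheme under a closed morphism is affine
-/

set_option autoImplicit false
set_option backward.isDefEq.respectTransparency.types false
universe u

open CategoryTheory CategoryTheory.Limits AlgebraicGeometry TopologicalSpace Opposite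
open Scheme (IdealSheafData)

namespace Groth.Agent.ChevGen

variable {X S : Scheme.{u}}

/-- Affineness of closed subschemes descends from the intersection of a chain to a member. -/
theorem exists_isAffine_of_chain [CompactSpace S] [QuasiSeparatedSpace S]
    (c : Set S.IdealSheafData) (hc : IsChain (· ≤ ·) c) (hne : c.Nonempty)
    (h : IsAffine (sSup c).subscheme) : ∃ 𝔞 ∈ c, IsAffine 𝔞.subscheme := by
  haveI : IsDirectedOrder c := ⟨fun a b => by
    rcases hc.total a.2 b.2 with h | h
    · exact ⟨b, h, le_rfl⟩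
    · exact ⟨a, le_rfl, h⟩⟩
  haveI : Nonempty c := hne.to_subtype
  let D : (c)ᵒᵖ ⥤ Scheme.{u} :=
    { obj := fun i => i.unop.1.subscheme
      map := fun {i j} f => IdealSheafData.inclusion f.unop.le
      map_id := fun i => IdealSheafData.inclusion_id _
      map_comp := fun f g => (IdealSheafData.inclusion_comp _ _).symm }
  let cn : Cone D :=
    { pt := (sSup c).subscheme
      π :=
        { app := fun i => IdealSheafData.inclusion (le_sSup i.unop.2)
          naturality := fun i j f => by
            exact (Category.id_comp _).trans (IdealSheafData.inclusion_comp _ _).symm } }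
  have hι : ∀ (s : Cone D) (i j : (c)ᵒᵖ), s.π.app i ≫ i.unop.1.subschemeι = s.π.app j ≫ j.unop.1.subschemeι := by
    intro s i j
    obtain ⟨k, hik, hjk⟩ := exists_ge_ge i.unop j.unop
    rw [← s.w (homOfLE hik).op, ← s.w (homOfLE hjk).op, Category.assoc, Category.assoc]
    show _ ≫ IdealSheafData.inclusion _ ≫ _ = _ ≫ IdealSheafData.inclusion _ ≫ _
    rw [IdealSheafData.inclusion_subschemeι, IdealSheafData.inclusion_subschemeι]
  obtain ⟨i₀⟩ := (inferInstance : Nonempty (c)ᵒᵖ)
  have hker : ∀ s : Cone D, (sSup c).subschemeι.ker ≤ (s.π.app i₀ ≫ i₀.unop.1.subschemeι).ker := by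
    intro s
    rw [IdealSheafData.ker_subschemeι]
    refine sSup_le fun 𝔞 h𝔞 => ?_
    rw [hι s i₀ (op ⟨𝔞, h𝔞⟩)]
    exact (IdealSheafData.ker_subschemeι 𝔞).ge.trans (Scheme.Hom.le_ker_comp _ _)
  have hlim : IsLimit cn :=
    { lift := fun s => IsClosedImmersion.lift (sSup c).subschemeι _ (hker s)
      fac := fun s j => by
        rw [← cancel_mono j.unop.1.subschemeι, Category.assoc]
        show _ ≫ IdealSheafData.inclusion _ ≫ _ = _
        rw [IdealSheafData.inclusion_subschemeι, IsClosedImmersion.lift_fac]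
        exact hι s i₀ j
      uniq := fun s m hm => by
        rw [← cancel_mono (sSup c).subschemeι, IsClosedImmersion.lift_fac]
        rw [← IdealSheafData.inclusion_subschemeι (le_sSup i₀.unop.2), ← Category.assoc]
        exact congrArg (· ≫ i₀.unop.1.subschemeι) (hm i₀) }
  haveI : ∀ {i j : (c)ᵒᵖ} (f : i ⟶ j), IsClosedImmersion (D.map f) := fun {i j} f => by
    haveI : IsClosedImmersion (IdealSheafData.inclusion f.unop.le ≫ j.unop.1.subschemeι) := by
      rw [IdealSheafData.inclusion_subschemeι]; infer_instance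
    exact IsClosedImmersion.of_comp (IdealSheafData.inclusion f.unop.le) j.unop.1.subschemeι
  haveI : ∀ i : (c)ᵒᵖ, CompactSpace (D.obj i) := fun i =>
    QuasiCompact.compactSpace_of_compactSpace i.unop.1.subschemeι
  haveI : ∀ i : (c)ᵒᵖ, QuasiSeparatedSpace (D.obj i) := fun i =>
    quasiSeparatedSpace_of_quasiSeparated i.unop.1.subschemeι
  haveI : IsAffine cn.pt := h
  obtain ⟨i, hi⟩ := Scheme.exists_isAffine_of_isLimit D cn hlim
  exact ⟨i.unop.1, i.unop.2, hi⟩

/-- Chevalley: the image of an affine scheme under a finite morphism is affine. -/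
theorem isAffine_of_finite_surjective [IsAffine X] [S.IsSeparated] (f : X ⟶ S) [IsFinite f]
    [Surjective f] : IsAffine S := by
  haveI : CompactSpace S := ⟨by
    rw [← f.surjective.range_eq]; exact isCompact_range f.continuous⟩
  by_contra hS
  let Bad : Set S.IdealSheafData := {𝔞 | ¬ IsAffine 𝔞.subscheme}
  have hbot : (⊥ : S.IdealSheafData) ∈ Bad := fun h =>
    hS (IsAffine.of_isIso (inv (⊥ : S.IdealSheafData).subschemeι))
  obtain ⟨𝔞, h𝔞, hmax⟩ : ∃ 𝔞 ∈ Bad, ∀ 𝔟 ∈ Bad, 𝔞 ≤ 𝔟 → 𝔟 ≤ 𝔞 := by
    obtain ⟨m, -, hm⟩ := zorn_le_nonempty₀ Bad (fun c hcB hc y hy => by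
      refine ⟨sSup c, fun h => ?_, fun z hz => le_sSup hz⟩
      obtain ⟨b, hb, hb'⟩ := exists_isAffine_of_chain c hc ⟨y, hy⟩ h
      exact hcB hb hb') ⊥ hbot
    exact ⟨m, hm.1, fun 𝔟 h𝔟 hle => hm.2 h𝔟 hle⟩
  let Z := 𝔞.subscheme
  let ι := 𝔞.subschemeι
  haveI : CompactSpace Z := QuasiCompact.compactSpace_of_compactSpace ι
  haveI : Z.IsSeparated := by
    constructor
    rw [show terminal.from Z = ι ≫ terminal.from S from terminal.hom_ext _ _]
    infer_instance
  have hclosed : ∀ 𝔟 : Z.IdealSheafData, 𝔟 ≠ ⊥ → IsAffine 𝔟.subscheme := by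
    intro 𝔟 hne
    by_contra hb
    let g := 𝔟.subschemeι ≫ ι
    have hk : ι.ker ≤ g.ker := Scheme.Hom.le_ker_comp _ _
    have hk' : 𝔞 ≤ g.ker := 𝔞.ker_subschemeι.ge.trans hk
    haveI : IsIso (IsClosedImmersion.lift g.ker.subschemeι g g.ker.ker_subschemeι.le) :=
      IsClosedImmersion.isIso_lift _ _ g.ker.ker_subschemeι
    have hgB : g.ker ∈ Bad := fun h => hb (IsAffine.of_isIso
      (IsClosedImmersion.lift g.ker.subschemeι g g.ker.ker_subschemeι.le))
    haveI : IsIso (IsClosedImmersion.lift ι g hk) :=
      IsClosedImmersion.isIso_lift ι g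
        (𝔞.ker_subschemeι.trans (le_antisymm hk' (hmax _ hgB hk')))
    have he : IsClosedImmersion.lift ι g hk = 𝔟.subschemeι := by
      rw [← cancel_mono ι, IsClosedImmersion.lift_fac]
    exact hne ((Scheme.isIso_subschemeι_iff_eq_bot 𝔟).1 (he ▸ inferInstance))
  -- reduced
  haveI : IsReduced Z := by
    by_contra hred
    have hne : Z.nilradical ≠ ⊥ := fun h => hred (by
      haveI : IsIso Z.nilradical.subschemeι := (Scheme.isIso_subschemeι_iff_eq_bot _).2 h
      haveI : IsReduced Z.nilradical.subscheme := H23.RedSub.isReduced_nilradical Z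
      exact isReduced_of_isOpenImmersion (inv Z.nilradical.subschemeι))
    haveI := hclosed _ hne
    exact h𝔞 (S0440.result Z.nilradical.subschemeι fun x => by
      have : x ∈ Set.range Z.nilradical.subschemeι := by
        rw [IdealSheafData.range_subschemeι, Scheme.support_nilradical]; trivial
      exact this)
  -- irreducible
  haveI : Nonempty Z := by
    by_contra hne
    rw [not_nonempty_iff] at hne
    exact h𝔞 inferInstance
  haveI : PreirreducibleSpace Z := by
    refine ⟨isPreirreducible_iff_isClosed_union_isClosed.2 fun A B hA hB hAB => ?_⟩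
    by_contra hcon
    push_neg at hcon
    have key : ∀ C : Closeds Z, ¬ (Set.univ ⊆ (C : Set Z)) →
        IsAffine (IdealSheafData.vanishingIdeal C).subscheme := fun C hC => by
      refine hclosed _ fun h => hC ?_
      rw [← IdealSheafData.coe_support_vanishingIdeal C, h]
      simp
    haveI : ∀ b : Bool, IsAffine
        (IdealSheafData.vanishingIdeal (if b then ⟨A, hA⟩ else ⟨B, hB⟩ : Closeds Z)).subscheme := fun b => by
      cases b <;> first | exact key _ hcon.1 | exact key _ hcon.2
    refine h𝔞 (S9203.result Z (κ := Bool)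
      (fun b => (IdealSheafData.vanishingIdeal (if b then ⟨A, hA⟩ else ⟨B, hB⟩)).subscheme)
      (fun b => (IdealSheafData.vanishingIdeal (if b then ⟨A, hA⟩ else ⟨B, hB⟩)).subschemeι) fun x => ?_)
    rcases hAB (Set.mem_univ x) with hx | hx
    · refine ⟨true, ?_⟩
      rw [IdealSheafData.range_subschemeι, IdealSheafData.coe_support_vanishingIdeal]
      exact hx
    · refine ⟨false, ?_⟩
      rw [IdealSheafData.range_subschemeι, IdealSheafData.coe_support_vanishingIdeal]
      exact hx
  haveI : IrreducibleSpace Z := ⟨‹_›⟩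
  haveI : AlgebraicGeometry.IsIntegral Z := isIntegral_of_irreducibleSpace_of_isReduced Z
  -- a component of the preimage dominating Z
  let p : pullback f ι ⟶ Z := pullback.snd f ι
  haveI : IsFinite p := MorphismProperty.pullback_snd (P := (@IsFinite : MorphismProperty Scheme.{u})) _ _ ‹_›
  haveI : Surjective p := MorphismProperty.pullback_snd (P := (@Surjective : MorphismProperty Scheme.{u})) _ _ ‹_›
  haveI : IsAffine (pullback f ι) := isAffine_of_isAffineHom (pullback.fst f ι)
  obtain ⟨x, hx⟩ := p.surjective (genericPoint Z)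
  let V := IdealSheafData.vanishingIdeal (Closeds.closure {x} : Closeds (pullback f ι : Scheme.{u}))
  haveI : IsReduced V.subscheme := H23.RedSub.isReduced_vanishingIdeal _
  haveI : IrreducibleSpace V.subscheme := by
    have hr : Set.range V.subschemeι = closure {x} := by
      rw [IdealSheafData.range_subschemeι, IdealSheafData.coe_support_vanishingIdeal]
      rfl
    haveI : IrreducibleSpace (Set.range V.subschemeι) := by
      rw [hr]
      exact isIrreducible_iff_irreducibleSpace.1 isIrreducible_singleton.closure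
    let φ := V.subschemeι.isEmbedding.toHomeomorph.symm
    have := (IrreducibleSpace.isIrreducible_univ (Set.range V.subschemeι)).image φ φ.continuous.continuousOn
    rw [Set.image_univ, φ.surjective.range_eq] at this
    have hxr : x ∈ Set.range V.subschemeι := by rw [hr]; exact subset_closure rfl
    exact { isPreirreducible_univ := this.2, toNonempty := ⟨φ ⟨x, hxr⟩⟩ }
  haveI : AlgebraicGeometry.IsIntegral V.subscheme := isIntegral_of_irreducibleSpace_of_isReduced _
  haveI : IsAffine V.subscheme := isAffine_of_isAffineHom V.subschemeι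
  haveI : Surjective (V.subschemeι ≫ p) := ⟨by
    intro z
    have hcl : IsClosed (Set.range (V.subschemeι ≫ p)) :=
      (V.subschemeι ≫ p).isClosedMap.isClosed_range
    refine hcl.closure_subset_iff.2 (?_ : ({genericPoint Z} : Set Z) ⊆ _) ?_
    · rintro _ rfl
      obtain ⟨v, hv⟩ : x ∈ Set.range V.subschemeι := by
        rw [IdealSheafData.range_subschemeι, IdealSheafData.coe_support_vanishingIdeal]
        exact subset_closure rfl
      exact ⟨v, by rw [Scheme.Hom.comp_apply, hv, hx]⟩
    · rw [(genericPoint_spec Z).def]; trivial⟩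
  exact h𝔞 (isAffine_core (V.subschemeι ≫ p) hclosed)

/-- An integral morphism from an affine scheme factors through a finite one with affine source. -/
theorem isAffine_of_integral_surjective [IsAffine X] [S.IsSeparated] (f : X ⟶ S) [IsIntegralHom f]
    [Surjective f] : IsAffine S := by
  classical
  have hx : ∀ x : X, ∃ (U : S.affineOpens) (e : Γ(X, ⊤)), X.basicOpen e ≤ f ⁻¹ᵁ U.1 ∧ x ∈ X.basicOpen e := by
    intro x
    obtain ⟨_, ⟨U, hU, rfl⟩, hxU, -⟩ := S.isBasis_affineOpens.exists_subset_of_mem_open
      (Set.mem_univ (f x)) isOpen_univ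
    obtain ⟨e, he, hxe⟩ := (isAffineOpen_top X).exists_basicOpen_le (V := f ⁻¹ᵁ U) ⟨x, hxU⟩ trivial
    exact ⟨⟨U, hU⟩, e, he, hxe⟩
  choose U e he hxe using hx
  obtain ⟨T, hT⟩ := isCompact_univ.elim_finite_subcover (fun x : X => (X.basicOpen (e x) : Set X))
    (fun x => (X.basicOpen _).2) (fun x _ => Set.mem_iUnion.2 ⟨x, hxe x⟩)
  have hspan : Ideal.span (Set.range fun x : T => e x.1) = ⊤ := by
    rw [← (isAffineOpen_top X).iSup_basicOpen_eq_self_iff]
    refine top_le_iff.1 fun w _ => ?_
    obtain ⟨w', hw', hw''⟩ := Set.mem_iUnion₂.1 (hT (Set.mem_univ w))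
    exact Opens.mem_iSup.2 ⟨⟨_, ⟨⟨w', hw'⟩, rfl⟩⟩, hw''⟩
  obtain ⟨γ, hγ⟩ := Ideal.mem_span_range_iff_exists_fun.1
    (hspan.ge (Submodule.mem_top (x := (1 : Γ(X, ⊤)))))
  let v : T ⊕ T → Γ(X, ⊤) := Sum.elim (fun x => e x.1) γ
  let g : X ⟶ 𝔸(T ⊕ T; S) := AffineSpace.homOfVector f v
  let str : (g.image : Scheme.{u}) ⟶ S := g.imageι ≫ (𝔸(T ⊕ T; S) ↘ S)
  have hstr : g.toImage ≫ str = f := by
    rw [Scheme.Hom.toImage_imageι_assoc]
    exact AffineSpace.homOfVector_over f v
  haveI : QuasiCompact g := by
    haveI : QuasiCompact (g ≫ (𝔸(T ⊕ T; S) ↘ S)) := by rw [AffineSpace.homOfVector_over]; infer_instance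
    exact QuasiCompact.of_comp g (𝔸(T ⊕ T; S) ↘ S)
  haveI : IsIntegralHom (g.toImage ≫ str) := by rw [hstr]; infer_instance
  haveI : IsIntegralHom g.toImage := IsIntegralHom.of_comp g.toImage str
  haveI : Surjective g.toImage := ⟨by
    rw [← Set.range_eq_univ, ← g.toImage.isClosedMap.isClosed_range.closure_eq]
    exact g.toImage.denseRange.closure_range⟩
  haveI : UniversallyClosed str := UniversallyClosed.of_comp_surjective g.toImage str
  haveI : LocallyOfFiniteType (𝔸(T ⊕ T; S) ↘ S) := inferInstance
  haveI : IsProper str := ⟨⟩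
  haveI : IsFinite str := IsFinite.iff_isProper_and_isAffineHom.2 ⟨inferInstance, inferInstance⟩
  haveI : Surjective str := ⟨fun s => by
    obtain ⟨x, rfl⟩ := f.surjective s
    exact ⟨g.toImage x, by rw [← Scheme.Hom.comp_apply, hstr]⟩⟩
  let c : T ⊕ T → Γ(g.image, ⊤) := fun i => g.imageι.appTop (AffineSpace.coord S i)
  have hc : ∀ i, g.toImage.appTop (c i) = v i := fun i => by
    show (g.imageι.appTop ≫ g.toImage.appTop) (AffineSpace.coord S i) = _
    rw [← Scheme.Hom.comp_appTop, Scheme.Hom.toImage_imageι]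
    exact AffineSpace.homOfVector_appTop_coord f v i
  have hunit : IsUnit (∑ x : T, c (.inr x) * c (.inl x)) := by
    refine g.image.toRingedSpace.isUnit_of_isUnit_germ ⊤ _ fun w _ => ?_
    refine (g.image.mem_basicOpen _ w (show w ∈ (⊤ : g.image.Opens) from trivial)).1 ?_
    obtain ⟨x, rfl⟩ := g.toImage.surjective w
    change x ∈ g.toImage ⁻¹ᵁ (g.image.basicOpen (∑ y : T, c (.inr y) * c (.inl y)))
    rw [Scheme.Hom.preimage_basicOpen]
    have : g.toImage.appTop (∑ x : T, c (.inr x) * c (.inl x)) = 1 := by
      simp only [map_sum, map_mul, hc]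
      exact hγ
    rw [show g.toImage.app ⊤ (∑ x : T, c (.inr x) * c (.inl x)) = 1 from this,
      Scheme.basicOpen_of_isUnit _ isUnit_one]
    trivial
  haveI : IsAffine g.image := by
    refine isAffine_of_isAffineOpen_basicOpen (Set.range fun x : T => c (.inl x)) ?_ ?_
    · exact Ideal.eq_top_of_isUnit_mem _ (Submodule.sum_mem _ fun x _ =>
        Ideal.mul_mem_left _ _ (Ideal.subset_span ⟨x, rfl⟩)) hunit
    · rintro _ ⟨x, rfl⟩
      have hle : g.image.basicOpen (c (.inl x)) ≤ str ⁻¹ᵁ (U x.1).1 := by
        intro w hw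
        obtain ⟨y, rfl⟩ := g.toImage.surjective w
        have hy : y ∈ g.toImage ⁻¹ᵁ g.image.basicOpen (c (.inl x)) := hw
        rw [Scheme.Hom.preimage_basicOpen,
          show g.toImage.app ⊤ (c (.inl x)) = e x.1 from hc (.inl x)] at hy
        show str (g.toImage y) ∈ (U x.1).1
        rw [← Scheme.Hom.comp_apply, hstr]
        exact he x.1 hy
      have := ((U x.1).2.preimage str).basicOpen
        (g.image.presheaf.map (homOfLE (le_top : str ⁻¹ᵁ (U x.1).1 ≤ ⊤)).op (c (.inl x)))
      rwa [g.image.basicOpen_res, inf_eq_right.2 hle] at this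
  exact isAffine_of_finite_surjective str

/-- The target of a surjective universally closed morphism from an affine scheme is affine. -/
theorem isAffine_of_universallyClosed_surjective [IsAffine X] (f : X ⟶ S) [Surjective f]
    [UniversallyClosed f] : IsAffine S := by
  haveI : S.IsSeparated := by
    constructor
    have hcl : IsClosed (Set.range (pullback.diagonal (terminal.from S))) := by
      let m := pullback.map (terminal.from X) (terminal.from X) (terminal.from S) (terminal.from S)
        f f (𝟙 _) (by simp) (by simp)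
      haveI : UniversallyClosed m := by
        dsimp only [m]
        exact MorphismProperty.pullbackMap (P := @UniversallyClosed) ‹_› ‹_› (terminal.hom_ext _ _) (terminal.hom_ext _ _)
      have h1 : pullback.diagonal (terminal.from X) ≫ m = f ≫ pullback.diagonal (terminal.from S) := by
        apply pullback.hom_ext
        · simp [m, pullback.map, Category.assoc]
          erw [pullback.lift_fst]; simp
        · simp [m, pullback.map, Category.assoc]
          erw [pullback.lift_snd]; simp
      have h2 := (m.isClosedMap _ (pullback.diagonal (terminal.from X)).isClosedEmbedding.isClosed_range)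
      rw [← Set.range_comp, ← TopCat.coe_comp, ← Scheme.Hom.comp_base, h1, Scheme.Hom.comp_base,
        TopCat.coe_comp, Set.range_comp, f.surjective.range_eq, Set.image_univ] at h2
      exact h2
    haveI := IsClosedImmersion.of_isPreimmersion _ hcl
    exact ⟨inferInstance⟩
  haveI : IsAffineHom f := by
    haveI : IsAffineHom (f ≫ terminal.from S) := by
      rw [show f ≫ terminal.from S = terminal.from X from terminal.hom_ext _ _]; infer_instance
    exact IsAffineHom.of_comp f (terminal.from S)
  haveI : IsIntegralHom f := IsIntegralHom.iff_universallyClosed_and_isAffineHom.2 ⟨‹_›, ‹_›⟩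
  exact isAffine_of_integral_surjective f

end Groth.Agent.ChevGen
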