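import Groth.Agent.ChevGen.Prep

/-!
# Chevalley's theorem without Noetherian hypotheses: the integral step

`q : W → Z` finite surjective, `W` affine, both integral, every proper closed subscheme of `Z` affine.
A linear retraction of `K(Z) → K(W)` maps, after multiplication by a suitable nonzero ideal `J`, the
functions on `q⁻¹U` into those on `U`; hence functions lift from closed subschemes to `Z`.
-/

set_option autoImplicit false
set_option backward.isDefEq.respectTransparency.types false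
universe u

open CategoryTheory AlgebraicGeometry TopologicalSpace Opposite
open Scheme (IdealSheafData)

namespace Groth.Agent.ChevGen

variable {Z W : Scheme.{u}}

theorem exists_affine_basicOpen [CompactSpace Z] {ξ : Z} (hgen : IsGenericPoint ξ (Set.univ : Set Z))
    (hclosed : ∀ 𝔟 : Z.IdealSheafData, ξ ∉ (𝔟.support : Set Z) → IsAffine 𝔟.subscheme)
    {𝔍 : Z.IdealSheafData} (hprod : ξ ∉ (𝔍.support : Set Z))
    {s : Finset (Nbhd ξ)} (hcov : ∀ x : Z, ∃ a ∈ s, x ∈ a.1.1) (hlift : Lifts 𝔍 s)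
    (z : Z) (hz : IsClosed {z}) :
    ∃ h : Γ(Z, ⊤), z ∈ Z.basicOpen h ∧ IsAffineOpen (Z.basicOpen h) := by
  obtain ⟨a₀, ha₀, hza₀⟩ := hcov z
  by_cases hzξ : z = ξ
  · refine ⟨1, by simp, ?_⟩
    rw [Scheme.basicOpen_of_isUnit _ isUnit_one,
      show (⊤ : Z.Opens) = a₀.1.1 from (top_le_iff.1 fun x _ => ?_).symm]
    · exact a₀.1.2
    have : x ∈ closure {ξ} := by rw [hgen.def]; trivial
    rw [← hzξ, hz.closure_eq] at this
    rw [Set.mem_singleton_iff.1 this]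
    exact hza₀
  let C : Closeds Z := ⟨(a₀.1.1 : Set Z)ᶜ ∪ {z}, a₀.1.1.2.isClosed_compl.union hz⟩
  let 𝔞 := IdealSheafData.vanishingIdeal C
  have hξ𝔞 : ξ ∉ (𝔞.support : Set Z) := by
    rw [IdealSheafData.coe_support_vanishingIdeal]
    rintro (h | h)
    · exact h a₀.2
    · exact hzξ (Set.mem_singleton_iff.1 h).symm
  have hξ𝔟 : ξ ∉ ((𝔍 * 𝔞).support : Set Z) := by
    rw [IdealSheafData.support_mul]
    exact fun hh => hh.elim hprod hξ𝔞
  haveI := hclosed _ hξ𝔟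
  have hzmem : ∀ x ∈ C, x ∈ Set.range (𝔍 * 𝔞).subschemeι := fun x hx => by
    rw [IdealSheafData.range_subschemeι, IdealSheafData.support_mul]
    refine Or.inr ?_
    rw [SetLike.mem_coe, ← SetLike.mem_coe, IdealSheafData.coe_support_vanishingIdeal]
    exact hx
  obtain ⟨z', hz'⟩ := hzmem z (Or.inr rfl)
  obtain ⟨t, ht, hzt⟩ := (isAffineOpen_top (𝔍 * 𝔞).subscheme).exists_basicOpen_le
    (V := (𝔍 * 𝔞).subschemeι ⁻¹ᵁ a₀.1.1) ⟨z', show _ ∈ a₀.1.1 by rw [hz']; exact hza₀⟩ trivial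
  obtain ⟨h, hh⟩ := hlift 𝔞 t
  have key : ∀ x' : (𝔍 * 𝔞).subscheme, (𝔍 * 𝔞).subschemeι x' ∈ C →
      ((𝔍 * 𝔞).subschemeι x' ∈ Z.basicOpen h ↔ x' ∈ (𝔍 * 𝔞).subscheme.basicOpen t) := by
    intro x' hx'
    obtain ⟨a, ha, hxa⟩ := hcov ((𝔍 * 𝔞).subschemeι x')
    obtain ⟨k, hk⟩ := (𝔍 * 𝔞).subschemeι.app_surjective a.1.1 a.1.2
      ((𝔍 * 𝔞).subscheme.presheaf.map (homOfLE le_top).op t)
    have hα := hh a ha k hk
    have hxα : (𝔍 * 𝔞).subschemeι x' ∈ 𝔞.support := by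
      rw [← SetLike.mem_coe, IdealSheafData.coe_support_vanishingIdeal]; exact hx'
    rw [IdealSheafData.mem_support_iff_of_mem hxa, Scheme.mem_zeroLocus_iff] at hxα
    have h1 : (𝔍 * 𝔞).subschemeι x' ∈ Z.basicOpen (Z.presheaf.map (homOfLE le_top).op h : Γ(Z, a.1.1)) ↔
        (𝔍 * 𝔞).subschemeι x' ∈ Z.basicOpen h := by
      rw [Z.basicOpen_res]; exact ⟨fun hx => hx.2, fun hx => ⟨hxa, hx⟩⟩
    have h2 : (𝔍 * 𝔞).subschemeι x' ∈ Z.basicOpen k ↔ x' ∈ (𝔍 * 𝔞).subscheme.basicOpen t := by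
      show x' ∈ (𝔍 * 𝔞).subschemeι ⁻¹ᵁ Z.basicOpen k ↔ _
      rw [Scheme.Hom.preimage_basicOpen, hk, Scheme.basicOpen_res]
      exact ⟨fun hx => hx.2, fun hx => ⟨hxa, hx⟩⟩
    rw [← h1, ← h2, Scheme.mem_basicOpen _ _ _ hxa, Scheme.mem_basicOpen _ _ _ hxa]
    have hnu : ¬ IsUnit (Z.presheaf.germ a.1.1 _ hxa
        (Z.presheaf.map (homOfLE le_top).op h - k)) := fun hu =>
      hxα _ hα ((Z.mem_basicOpen _ _ hxa).2 hu)
    rw [map_sub] at hnu
    haveI := AlgebraicGeometry.LocallyRingedSpace.isLocalRing Z.toLocallyRingedSpace ((𝔍 * 𝔞).subschemeι x')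
    have hm := (IsLocalRing.mem_maximalIdeal _).2 hnu
    constructor <;> intro hu <;> by_contra hcon
    · exact (IsLocalRing.mem_maximalIdeal _).1
        (by simpa using add_mem hm ((IsLocalRing.mem_maximalIdeal _).2 hcon)) hu
    · exact (IsLocalRing.mem_maximalIdeal _).1
        (by simpa using sub_mem ((IsLocalRing.mem_maximalIdeal _).2 hcon) hm) hu
  refine ⟨h, hz' ▸ (key z' (hz'.symm ▸ Or.inr rfl)).2 hzt, ?_⟩
  have hle : Z.basicOpen h ≤ a₀.1.1 := fun x hx => by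
    by_contra hxa
    obtain ⟨x', rfl⟩ := hzmem x (Or.inl hxa)
    exact hxa (ht ((key x' (Or.inl hxa)).1 hx))
  have := a₀.1.2.basicOpen (Z.presheaf.map (homOfLE le_top).op h)
  rwa [Z.basicOpen_res, inf_eq_right.2 hle] at this

theorem isAffine_of_lifts [IsIntegral Z] [CompactSpace Z] {ξ : Z} (hgen : IsGenericPoint ξ (Set.univ : Set Z))
    (hclosed : ∀ 𝔟 : Z.IdealSheafData, ξ ∉ (𝔟.support : Set Z) → IsAffine 𝔟.subscheme)
    {𝔍 : Z.IdealSheafData} (hprod : ξ ∉ (𝔍.support : Set Z))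
    {s : Finset (Nbhd ξ)} (hcov : ∀ x : Z, ∃ a ∈ s, x ∈ a.1.1) (hlift : Lifts 𝔍 s) :
    IsAffine Z := by
  classical
  have hbasic := exists_affine_basicOpen hgen hclosed hprod hcov hlift
  let B : Set Γ(Z, ⊤) := {h | IsAffineOpen (Z.basicOpen h)}
  refine isAffine_of_isAffineOpen_basicOpen B ?_ (fun h hh => hh)
  have hBcov : ∀ z : Z, ∃ h ∈ B, z ∈ Z.basicOpen h := fun z => by
    obtain ⟨z', hz'1, hz'2⟩ := (isClosed_closure (s := ({z} : Set Z))).exists_closed_singleton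
      (Set.singleton_nonempty z).closure
    obtain ⟨h, h1, h2⟩ := hbasic z' hz'2
    refine ⟨h, h2, ?_⟩
    obtain ⟨x, hx1, hx2⟩ := mem_closure_iff.1 hz'1 _ (Z.basicOpen h).2 h1
    exact Set.mem_singleton_iff.1 hx2 ▸ hx1
  obtain ⟨h₀, hh₀B, hξh₀⟩ := hBcov ξ
  let 𝔞 : Z.IdealSheafData := IdealSheafData.ofIdealTop (Ideal.span {h₀})
  have hξ𝔞 : ξ ∉ (𝔞.support : Set Z) := by
    rw [IdealSheafData.coe_support_ofIdealTop, Scheme.mem_zeroLocus_iff]
    exact fun hh => hh h₀ (Ideal.mem_span_singleton_self _) hξh₀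
  have hξ𝔟 : ξ ∉ ((𝔍 * 𝔞).support : Set Z) := by
    rw [IdealSheafData.support_mul]
    exact fun hh => hh.elim hprod hξ𝔞
  haveI := hclosed _ hξ𝔟
  let res := ((𝔍 * 𝔞).subschemeι.appTop).hom
  have htop : Ideal.span (res '' B) = ⊤ := by
    rw [← (isAffineOpen_top (𝔍 * 𝔞).subscheme).iSup_basicOpen_eq_self_iff]
    refine top_le_iff.1 fun x _ => ?_
    obtain ⟨h, hhB, hx⟩ := hBcov ((𝔍 * 𝔞).subschemeι x)
    refine Opens.mem_iSup.2 ⟨⟨res h, h, hhB, rfl⟩, ?_⟩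
    have hx : x ∈ (𝔍 * 𝔞).subschemeι ⁻¹ᵁ Z.basicOpen h := hx
    rwa [Scheme.Hom.preimage_basicOpen] at hx
  have hone : (1 : Γ((𝔍 * 𝔞).subscheme, ⊤)) ∈ Ideal.span (res '' B) := htop ▸ trivial
  obtain ⟨l, hlB, hl⟩ := (Finsupp.mem_span_image_iff_linearCombination Γ((𝔍 * 𝔞).subscheme, ⊤)).1 hone
  choose G hG using fun h : Γ(Z, ⊤) => hlift 𝔞 (l h)
  rw [Ideal.eq_top_iff_one]
  have hsB : ∑ h ∈ l.support, G h * h ∈ Ideal.span B :=
    Submodule.sum_mem _ fun h hh => Ideal.mul_mem_left _ _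
      (Ideal.subset_span ((Finsupp.mem_supported _ l).1 hlB hh))
  suffices 1 - ∑ h ∈ l.support, G h * h ∈ Ideal.span B by simpa using add_mem this hsB
  have hdiv : ∀ a : s, ∃ c : Γ(Z, a.1.1.1),
      Z.presheaf.map (homOfLE le_top).op (1 - ∑ h ∈ l.support, G h * h) =
        Z.presheaf.map (homOfLE le_top).op h₀ * c := by
    intro a
    refine Ideal.mem_span_singleton.1 ?_
    have h𝔞 : 𝔞.ideal a.1.1 = Ideal.span {Z.presheaf.map (homOfLE le_top).op h₀} := by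
      rw [IdealSheafData.ofIdealTop_ideal, Ideal.map_span, Set.image_singleton]
    rw [← h𝔞]
    have hsurj : ∀ h : Γ(Z, ⊤), ∃ k : Γ(Z, a.1.1.1),
        (𝔍 * 𝔞).subschemeι.app a.1.1.1 k =
          (𝔍 * 𝔞).subscheme.presheaf.map (homOfLE le_top).op (l h) :=
      fun h => (𝔍 * 𝔞).subschemeι.app_surjective a.1.1.1 a.1.1.2 _
    choose k hk using hsurj
    let r : Γ(Z, ⊤) → Γ(Z, a.1.1.1) := fun x => Z.presheaf.map (homOfLE le_top).op x
    have hsplit : r (1 - ∑ h ∈ l.support, G h * h) =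
        (1 - ∑ h ∈ l.support, k h * r h) - ∑ h ∈ l.support, (r (G h) - k h) * r h := by
      simp only [r, map_sub, map_one, map_sum, map_mul, sub_mul, Finset.sum_sub_distrib]
      ring
    show r _ ∈ _
    rw [hsplit]
    refine sub_mem ?_ (Submodule.sum_mem _ fun h _ => Ideal.mul_mem_right _ _
      (hG h a.1 a.2 (k h) (hk h)))
    refine Ideal.mul_le_right (?_ : _ ∈ 𝔍.ideal a.1.1 * 𝔞.ideal a.1.1)
    rw [← Pi.mul_apply, ← IdealSheafData.ideal_mul, ← (𝔍 * 𝔞).ker_subschemeι_app a.1.1,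
      RingHom.mem_ker, map_sub, map_one, map_sum, sub_eq_zero]
    have hnat : ∀ h, (𝔍 * 𝔞).subschemeι.app a.1.1.1 (r h) =
        (𝔍 * 𝔞).subscheme.presheaf.map (homOfLE le_top).op (res h) := fun h =>
      ConcreteCategory.congr_hom ((𝔍 * 𝔞).subschemeι.naturality (homOfLE (le_top : a.1.1.1 ≤ ⊤)).op) h
    rw [Finsupp.linearCombination_apply, Finsupp.sum] at hl
    simp only [smul_eq_mul] at hl
    have := congrArg (fun x => (𝔍 * 𝔞).subscheme.presheaf.map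
      (homOfLE (le_top : (𝔍 * 𝔞).subschemeι ⁻¹ᵁ a.1.1.1 ≤ ⊤)).op x) hl
    simp only [map_sum, map_mul, map_one] at this
    refine this.symm.trans ?_
    refine Finset.sum_congr rfl fun h _ => ?_
    exact (congrArg₂ (· * ·) (hk h) (hnat h)).symm.trans (map_mul _ _ _).symm
  choose c hc using hdiv
  have hcompat : TopCat.Presheaf.IsCompatible Z.sheaf.1 (fun a : s => a.1.1.1) c := by
    intro a b
    haveI : Nonempty (a.1.1.1 ⊓ b.1.1.1 : Z.Opens) := ⟨⟨ξ, a.1.2, b.1.2⟩⟩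
    apply germ_injective_of_isIntegral Z ξ (U := a.1.1.1 ⊓ b.1.1.1) ⟨a.1.2, b.1.2⟩
    refine (TopCat.Presheaf.germ_res_apply _ _ _ _ _).trans
      (Eq.trans ?_ (TopCat.Presheaf.germ_res_apply _ _ _ _ _).symm)
    have e : ∀ x : s, Z.presheaf.germ ⊤ ξ trivial (1 - ∑ h ∈ l.support, G h * h) =
        Z.presheaf.germ ⊤ ξ trivial h₀ * Z.presheaf.germ x.1.1.1 ξ x.1.2 (c x) := fun x => by
      have := congrArg (Z.presheaf.germ x.1.1.1 ξ x.1.2) (hc x)
      simpa only [map_mul, TopCat.Presheaf.germ_res_apply] using this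
    exact mul_left_cancel₀ ((Z.mem_basicOpen h₀ ξ trivial).1 hξh₀).ne_zero ((e a).symm.trans (e b))
  obtain ⟨c₀', hc₀, -⟩ := Z.sheaf.existsUnique_gluing' (fun a : s => a.1.1.1) ⊤
    (fun a => homOfLE le_top) (fun x _ => by
      obtain ⟨a, ha, hxa⟩ := hcov x
      exact Opens.mem_iSup.2 ⟨⟨a, ha⟩, hxa⟩) c hcompat
  let c₀ : Γ(Z, ⊤) := c₀'
  have : 1 - ∑ h ∈ l.support, G h * h = h₀ * c₀ :=
    Z.sheaf.eq_of_locally_eq' (fun a : s => a.1.1.1) ⊤ (fun a => homOfLE le_top)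
      (fun x _ => by
        obtain ⟨a, ha, hxa⟩ := hcov x
        exact Opens.mem_iSup.2 ⟨⟨a, ha⟩, hxa⟩) _ _
      fun a => (hc a).trans (by
        rw [← show Z.presheaf.map (homOfLE le_top).op c₀ = c a from hc₀ a, ← map_mul]
        rfl)
  rw [this]
  exact Ideal.mul_mem_right _ _ (Ideal.subset_span hh₀B)

end Groth.Agent.ChevGen
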