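import Groth.Agent.ChevGen.Prep

/-!
# Chevalley's theorem without Noetherian hypotheses: the integral step

`q : W → Z` finite surjective, `W` affine, both integral, every proper closed subscheme of `Z` affine.
A linear retraction of `K(Z) → K(W)` maps, after multiplication by a suitable nonzero ideal `J`, the
functions on `q⁻¹U` into those on `U`; hence functions lift from closed subschemes to `Z`.
-/

set_option autoImplicit false
set_option backward.isDefEq.respectTransparency.types false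
universe u

open CategoryTheory AlgebraicGeometry TopologicalSpace Opposite
open Scheme (IdealSheafData)

namespace Groth.Agent.ChevGen

variable {Z W : Scheme.{u}}

theorem lifts_of_bound [IsIntegral Z] [IsIntegral W] [IsAffine W] [Z.IsSeparated]
    (q : W ⟶ Z) [IsFinite q] (w₀ : W) (hw₀ : w₀ = genericPoint W) (R : Retr q w₀)
    (s : Finset (Nbhd (q w₀))) (hcov : ∀ x : Z, ∃ a ∈ s, x ∈ a.1.1)
    (𝔍 : Z.IdealSheafData)
    (hJlam : ∀ a ∈ s, ∀ x ∈ 𝔍.ideal a.1, ∀ b : Γ(W, q ⁻¹ᵁ a.1.1),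
        Z.presheaf.germ a.1.1 (q w₀) a.2 x * R.lam (W.presheaf.germ (q ⁻¹ᵁ a.1.1) w₀ a.2 b) ∈
          (Z.presheaf.germ a.1.1 (q w₀) a.2).hom.range) :
    Lifts 𝔍 s := by
  classical
  subst hw₀
  intro 𝔞 t
  have hsurj : ∀ a : Nbhd (q (genericPoint W)), ∃ k : Γ(Z, a.1.1),
      (𝔍 * 𝔞).subschemeι.app a.1.1 k =
        (𝔍 * 𝔞).subscheme.presheaf.map (homOfLE le_top).op t :=
    fun a => (𝔍 * 𝔞).subschemeι.app_surjective a.1.1 a.1.2 _
  choose k hk using hsurj
  let g : Nbhd (q (genericPoint W)) → Z.presheaf.stalk (q (genericPoint W)) :=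
    fun a => Z.presheaf.germ a.1.1 (q (genericPoint W)) a.2 (k a)
  let M := (𝔍 * 𝔞).comap q
  -- a partition of unity on W
  have hW : ∀ w : W, ∃ e : Γ(W, ⊤), ∃ a ∈ s, W.basicOpen e ≤ q ⁻¹ᵁ a.1.1 ∧ w ∈ W.basicOpen e := by
    intro w
    obtain ⟨a, ha, hwa⟩ := hcov (q w)
    obtain ⟨e, he, hwe⟩ := (isAffineOpen_top W).exists_basicOpen_le (V := q ⁻¹ᵁ a.1.1)
      ⟨w, hwa⟩ trivial
    exact ⟨e, a, ha, he, hwe⟩
  choose e c hc hec hwe using hW
  obtain ⟨T, hT⟩ := isCompact_univ.elim_finite_subcover (fun w : W => (W.basicOpen (e w) : Set W))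
    (fun w => (W.basicOpen (e w)).2) (fun w _ => Set.mem_iUnion.2 ⟨w, hwe w⟩)
  let ε : W → W.presheaf.stalk (genericPoint W) := fun w => W.presheaf.germ ⊤ (genericPoint W) trivial (e w)
  let δ : Nbhd (q (genericPoint W)) → W → W.presheaf.stalk (genericPoint W) :=
    fun a w => (q.stalkMap (genericPoint W)).hom (g a - g (c w))
  have hN : ∀ (a : Nbhd (q (genericPoint W))) w, ∃ N : ℕ, ∃ m ∈ M.ideal ⟨q ⁻¹ᵁ a.1.1, (show IsAffineOpen a.1.1 from a.1.2).preimage q⟩,
      W.presheaf.germ (q ⁻¹ᵁ a.1.1) (genericPoint W) a.2 m = ε w ^ N * δ a w := by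
    intro a w
    by_cases hε : ε w = 0
    · exact ⟨1, 0, zero_mem _, by simp [hε]⟩
    let V := q ⁻¹ᵁ a.1.1
    let ê : Γ(W, V) := W.presheaf.map (homOfLE le_top).op (e w)
    let D := W.basicOpen ê
    have hD : D ≤ q ⁻¹ᵁ (a.1.1 ⊓ (c w).1.1) := fun x hx => by
      have hx' := hx
      rw [show D = V ⊓ W.basicOpen (e w) from W.basicOpen_res _ _] at hx'
      exact ⟨hx'.1, hec w hx'.2⟩
    have hgW : (genericPoint W) ∈ D := by
      rw [show D = V ⊓ W.basicOpen (e w) from W.basicOpen_res _ _]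
      refine ⟨a.2, (W.mem_basicOpen (e w) (genericPoint W) trivial).2 ?_⟩
      exact (Ne.isUnit (a := (show W.functionField from ε w)) hε)
    let Uc : Z.affineOpens := ⟨a.1.1 ⊓ (c w).1.1, a.1.2.inf (c w).1.2⟩
    let z : Γ(Z, Uc.1) := Z.presheaf.map (homOfLE inf_le_left).op (k a) -
      Z.presheaf.map (homOfLE inf_le_right).op (k (c w))
    have hz : z ∈ (𝔍 * 𝔞).ideal Uc := by
      rw [← (𝔍 * 𝔞).ker_subschemeι_app Uc, RingHom.mem_ker, map_sub, sub_eq_zero]
      have h1 := fun (V' : Z.Opens) (hV : V' ≤ a.1.1) => congrArg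
        ((𝔍 * 𝔞).subscheme.presheaf.map ((Opens.map (𝔍 * 𝔞).subschemeι.base).map (homOfLE hV)).op) (hk a)
      have h2 := fun (V' : Z.Opens) (hV : V' ≤ (c w).1.1) => congrArg
        ((𝔍 * 𝔞).subscheme.presheaf.map ((Opens.map (𝔍 * 𝔞).subschemeι.base).map (homOfLE hV)).op) (hk (c w))
      have n1 := fun (V' U' : Z.Opens) (hV : V' ≤ U') (x : Γ(Z, U')) =>
        ConcreteCategory.congr_hom ((𝔍 * 𝔞).subschemeι.naturality (homOfLE hV).op) x
      simp only [ConcreteCategory.comp_apply] at n1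
      rw [n1, n1]
      refine (h1 Uc.1 inf_le_left).trans (Eq.trans ?_ (h2 Uc.1 inf_le_right).symm)
      rw [← ConcreteCategory.comp_apply, ← Functor.map_comp, ← ConcreteCategory.comp_apply,
        ← Functor.map_comp]
      rfl
    have hy : W.presheaf.map (homOfLE hD).op (q.app Uc.1 z) ∈ M.ideal ⟨D, ((show IsAffineOpen a.1.1 from a.1.2).preimage q).basicOpen ê⟩ := by
      have := ModPairLib.ideal_comap (𝔍 * 𝔞) q Uc ⟨D, ((show IsAffineOpen a.1.1 from a.1.2).preimage q).basicOpen ê⟩ hD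
      rw [this]
      exact Ideal.mem_map_of_mem _ hz
    replace hy : W.presheaf.map (homOfLE hD).op (q.app Uc.1 z) ∈
        (M.ideal ⟨V, (show IsAffineOpen a.1.1 from a.1.2).preimage q⟩).map
          (W.presheaf.map (homOfLE (W.basicOpen_le ê)).op).hom :=
      (M.map_ideal_basicOpen ⟨V, (show IsAffineOpen a.1.1 from a.1.2).preimage q⟩ ê).ge hy
    letI := (W.presheaf.map (homOfLE (W.basicOpen_le ê)).op).hom.toAlgebra
    haveI := ((show IsAffineOpen a.1.1 from a.1.2).preimage q).isLocalization_of_eq_basicOpen ê (homOfLE (W.basicOpen_le ê)) rfl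
    obtain ⟨⟨⟨m, hm⟩, ⟨_, n, rfl⟩⟩, hmn⟩ :=
      (IsLocalization.mem_map_algebraMap_iff (Submonoid.powers ê) Γ(W, D)).1 hy
    refine ⟨n, m, hm, ?_⟩
    have h := congrArg (W.presheaf.germ D (genericPoint W) hgW) hmn
    simp only [RingHom.algebraMap_toAlgebra, map_mul, TopCat.Presheaf.germ_res_apply, map_pow] at h
    refine h.symm.trans ?_
    rw [mul_comm]
    congr 1
    · rw [TopCat.Presheaf.germ_res_apply]
    · show _ = (q.stalkMap (genericPoint W)).hom (g a - g (c w))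
      refine ((hψ q (genericPoint W) Uc.1 ⟨a.2, (c w).2⟩ z).symm).trans ?_
      rw [map_sub]
      simp only [TopCat.Presheaf.germ_res_apply]
      rfl
  choose N m₀ hm₀ hm₀' using hN
  let N₀ := (s ×ˢ T).sup fun p => N p.1 p.2
  have hspan : Ideal.span (Set.range fun w : T => e w.1 ^ N₀) = ⊤ := by
    have hs' : Ideal.span (Set.range fun w : T => e w.1) = ⊤ := by
      rw [← (isAffineOpen_top W).iSup_basicOpen_eq_self_iff]
      refine top_le_iff.1 fun w _ => ?_
      obtain ⟨w', hw', hw''⟩ := Set.mem_iUnion₂.1 (hT (Set.mem_univ w))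
      exact Opens.mem_iSup.2 ⟨⟨_, ⟨⟨w', hw'⟩, rfl⟩⟩, hw''⟩
    have := Ideal.span_pow_eq_top _ hs' N₀
    rwa [← Set.range_comp] at this
  obtain ⟨γ, hγ⟩ := Ideal.mem_span_range_iff_exists_fun.1
    (hspan.ge (Submodule.mem_top (x := (1 : Γ(W, ⊤)))))
  let γ' : T → W.presheaf.stalk (genericPoint W) := fun w => W.presheaf.germ ⊤ (genericPoint W) trivial (γ w)
  have hsum : ∑ w : T, γ' w * ε w.1 ^ N₀ = 1 := by
    have := congrArg (W.presheaf.germ ⊤ (genericPoint W) trivial) hγ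
    simpa [map_sum, map_mul, map_pow, γ', ε] using this
  let μ : Nbhd (q (genericPoint W)) → W.presheaf.stalk (genericPoint W) :=
    fun a => ∑ w : T, γ' w * ε w.1 ^ N₀ * δ a w.1
  have hμ : ∀ a b, μ a - μ b = (q.stalkMap (genericPoint W)).hom (g a - g b) := fun a b => by
    simp only [μ, δ, ← Finset.sum_sub_distrib, ← mul_sub, ← map_sub]
    rw [← Finset.sum_congr rfl (fun w _ => by rw [sub_sub_sub_cancel_right]), ← Finset.sum_mul,
      hsum, one_mul]
  have hα : ∀ a ∈ s, ∃ α ∈ 𝔞.ideal a.1, Z.presheaf.germ a.1.1 (q (genericPoint W)) a.2 α = R.lam (μ a) := by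
    intro a ha
    obtain ⟨m, hm, hmμ⟩ : ∃ m ∈ M.ideal ⟨q ⁻¹ᵁ a.1.1, (show IsAffineOpen a.1.1 from a.1.2).preimage q⟩,
        W.presheaf.germ (q ⁻¹ᵁ a.1.1) (genericPoint W) a.2 m = μ a := by
      refine ⟨∑ w : T, W.presheaf.map (homOfLE le_top).op (γ w * e w.1 ^ (N₀ - N a w.1)) * m₀ a w.1,
        Submodule.sum_mem _ fun w _ => Ideal.mul_mem_left _ _ (hm₀ a w.1), ?_⟩
      rw [map_sum]
      refine Finset.sum_congr rfl fun w _ => ?_
      have hle : N a w.1 ≤ N₀ := Finset.le_sup (f := fun p => N p.1 p.2) (b := (a, w.1))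
        (Finset.mem_product.2 ⟨ha, w.2⟩)
      rw [map_mul, TopCat.Presheaf.germ_res_apply, hm₀', map_mul, map_pow]
      show γ' w * ε w.1 ^ (N₀ - N a w.1) * (ε w.1 ^ N a w.1 * _) = _
      rw [← mul_assoc, mul_assoc (γ' w), ← pow_add, Nat.sub_add_cancel hle]
    rw [← hmμ]
    rw [ModPairLib.ideal_comap (𝔍 * 𝔞) q a.1 ⟨_, (show IsAffineOpen a.1.1 from a.1.2).preimage q⟩ le_rfl,
      ← Scheme.Hom.app_eq_appLE, IdealSheafData.ideal_mul, Pi.mul_apply] at hm
    suffices ∀ b : Γ(W, q ⁻¹ᵁ a.1.1), ∀ x ∈ 𝔍.ideal a.1 * 𝔞.ideal a.1,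
        R.lam (W.presheaf.germ (q ⁻¹ᵁ a.1.1) (genericPoint W) a.2 (b * q.app a.1.1 x)) ∈
          (𝔞.ideal a.1).toAddSubgroup.map (Z.presheaf.germ a.1.1 (q (genericPoint W)) a.2).hom.toAddMonoidHom by
      obtain ⟨α, hα, hαm⟩ : R.lam (W.presheaf.germ (q ⁻¹ᵁ a.1.1) (genericPoint W) a.2 m) ∈
          (𝔞.ideal a.1).toAddSubgroup.map (Z.presheaf.germ a.1.1 (q (genericPoint W)) a.2).hom.toAddMonoidHom := by
        clear hmμ; induction hm using Submodule.span_induction with
        | mem y hy =>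
          obtain ⟨x, hx, rfl⟩ := hy
          simpa using this 1 x hx
        | zero => simp
        | add y y' _ _ h h' => rw [map_add, map_add]; exact add_mem h h'
        | smul r y hy h =>
          clear h
          induction hy using Submodule.span_induction generalizing r with
          | mem y hy =>
            obtain ⟨x, hx, rfl⟩ := hy
            exact this r x hx
          | zero => simp
          | add y y' _ _ h h' => rw [smul_add, map_add, map_add]; exact add_mem (h r) (h' r)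
          | smul r' y _ h => rw [smul_smul]; exact h (r * r')
      exact ⟨α, hα, hαm⟩
    intro b x hx
    refine Submodule.mul_induction_on hx (fun j hj α hα => ?_) fun x y hx hy => ?_
    · obtain ⟨c, hc⟩ := hJlam a ha j hj b
      refine ⟨α * c, Ideal.mul_mem_right _ _ hα, ?_⟩
      show Z.presheaf.germ a.1.1 (q (genericPoint W)) a.2 (α * c) = _
      rw [mul_comm b, map_mul (W.presheaf.germ (q ⁻¹ᵁ a.1.1) (genericPoint W) a.2).hom, ← hψ q (genericPoint W) a.1.1 a.2, R.lin, map_mul,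
        map_mul, mul_comm (Z.presheaf.germ a.1.1 (q (genericPoint W)) a.2 j), mul_assoc]
      exact congrArg _ hc
    · rw [map_add, mul_add, map_add, map_add]
      exact add_mem hx hy
  choose α hα hαeq using hα
  have hker : ∀ a ∈ s, ∀ b ∈ s, g a - R.lam (μ a) = g b - R.lam (μ b) := fun a _ b _ => by
    have := congrArg R.lam (hμ a b)
    rw [map_sub, R.left] at this
    linear_combination this.symm
  let U : s → Z.Opens := fun a => a.1.1.1
  have hcompat : TopCat.Presheaf.IsCompatible Z.sheaf.1 U (fun a => k a.1 - α a.1 a.2) := by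
    intro a b
    haveI : Nonempty (U a ⊓ U b : Z.Opens) := ⟨⟨q (genericPoint W), a.1.2, b.1.2⟩⟩
    apply germ_injective_of_isIntegral Z (q (genericPoint W)) (U := U a ⊓ U b) ⟨a.1.2, b.1.2⟩
    refine (TopCat.Presheaf.germ_res_apply _ _ _ _ _).trans
      (Eq.trans ?_ (TopCat.Presheaf.germ_res_apply _ _ _ _ _).symm)
    rw [map_sub, map_sub, hαeq, hαeq]
    exact hker a.1 a.2 b.1 b.2
  obtain ⟨h, hh, -⟩ := Z.sheaf.existsUnique_gluing' U ⊤ (fun a => homOfLE le_top)
    (fun x _ => by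
      obtain ⟨a, ha, hxa⟩ := hcov x
      exact Opens.mem_iSup.2 ⟨⟨a, ha⟩, hxa⟩) _ hcompat
  refine ⟨h, fun a ha k' hk' => ?_⟩
  rw [show Z.presheaf.map (homOfLE le_top).op h = k a - α a ha from hh ⟨a, ha⟩,
    show k a - α a ha - k' = (k a - k') - α a ha by ring]
  refine sub_mem ?_ (hα a ha)
  have : k a - k' ∈ (𝔍 * 𝔞).ideal a.1 := by
    rw [← (𝔍 * 𝔞).ker_subschemeι_app a.1, RingHom.mem_ker, map_sub, sub_eq_zero]
    exact (hk a).trans hk'.symm
  rw [IdealSheafData.ideal_mul] at this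
  exact Ideal.mul_le_right this

end Groth.Agent.ChevGen
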