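import Groth.Agent.ChevGen.Prep
import Groth.Agent.ChevGen.Lift
import Groth.Agent.ChevGen.Cover

/-!
# Chevalley's theorem without Noetherian hypotheses: the integral step

`q : W → Z` finite surjective, `W` affine, both integral, every proper closed subscheme of `Z` affine.
A linear retraction of `K(Z) → K(W)` maps, after multiplication by a suitable nonzero ideal `J`, the
functions on `q⁻¹U` into those on `U`; hence functions lift from closed subschemes to `Z`.
-/

set_option autoImplicit false
set_option backward.isDefEq.respectTransparency.types false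
universe u

open CategoryTheory AlgebraicGeometry TopologicalSpace Opposite
open Scheme (IdealSheafData)

namespace Groth.Agent.ChevGen

variable {Z W : Scheme.{u}}

/-- If every proper closed subscheme of the integral scheme `Z` is affine and `Z` receives a finite
surjection from an affine integral scheme, then `Z` is affine. -/
theorem isAffine_core [IsIntegral Z] [IsIntegral W] [IsAffine W] [CompactSpace Z] [Z.IsSeparated]
    (q : W ⟶ Z) [IsFinite q] [Surjective q]
    (hclosed : ∀ 𝔟 : Z.IdealSheafData, 𝔟 ≠ ⊥ → IsAffine 𝔟.subscheme) : IsAffine Z := by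
  classical
  let w₀ : W := genericPoint W
  have hgen : IsGenericPoint (q w₀) (Set.univ : Set Z) := by
    have := (genericPoint_spec W).image q.continuous
    rwa [Set.image_univ, Set.range_eq_univ.2 q.surjective, closure_univ] at this
  have hfield : IsField (Z.presheaf.stalk (q w₀)) := by
    rw [show q w₀ = genericPoint Z from hgen.eq (genericPoint_spec Z)]
    exact (Field.toIsField Z.functionField)
  letI : Field (Z.presheaf.stalk (q w₀)) := hfield.toField
  letI : Algebra (Z.presheaf.stalk (q w₀)) (W.presheaf.stalk w₀) := (q.stalkMap w₀).hom.toAlgebra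
  haveI : Nontrivial (W.presheaf.stalk w₀) := inferInstanceAs (Nontrivial W.functionField)
  obtain ⟨lam, hlam⟩ := (Algebra.linearMap (Z.presheaf.stalk (q w₀)) (W.presheaf.stalk w₀)).exists_leftInverse_of_injective
    (LinearMap.ker_eq_bot.2 (algebraMap (Z.presheaf.stalk (q w₀)) (W.presheaf.stalk w₀)).injective)
  let R : Retr q w₀ := ⟨lam.toAddMonoidHom, fun x => LinearMap.congr_fun hlam x, fun x l => by
    have := lam.map_smul x l
    rwa [Algebra.smul_def, smul_eq_mul] at this⟩
  obtain ⟨s, hs⟩ := isCompact_univ.elim_finite_subcover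
    (fun U : Nbhd (q w₀) => (U.1.1 : Set Z)) (fun U => U.1.1.2) (fun x _ => by
      obtain ⟨_, ⟨U, hU, rfl⟩, hxU, -⟩ := Z.isBasis_affineOpens.exists_subset_of_mem_open
        (Set.mem_univ x) isOpen_univ
      exact Set.mem_iUnion.2 ⟨⟨⟨U, hU⟩, (hgen.mem_open_set_iff U.2).2 ⟨x, trivial, hxU⟩⟩, hxU⟩)
  have hcov : ∀ x : Z, ∃ a ∈ s, x ∈ a.1.1 := fun x => by
    obtain ⟨a, ha, hxa⟩ := Set.mem_iUnion₂.1 (hs (Set.mem_univ x))
    exact ⟨a, ha, hxa⟩
  choose J hJ hJlam using exists_bound q w₀ R
  have hprod : q w₀ ∉ ((∏ a ∈ s, J a).support : Set Z) := by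
    refine Finset.prod_induction J (fun I => q w₀ ∉ (I.support : Set Z)) (fun I I' h h' => ?_)
      (by simp) (fun a _ => hJ a)
    rw [IdealSheafData.support_mul]
    exact fun hh => hh.elim h h'
  have hle : ∀ a ∈ s, (∏ a ∈ s, J a).ideal a.1 ≤ (J a).ideal a.1 := by
    intro a ha
    rw [← Finset.mul_prod_erase _ _ ha, IdealSheafData.ideal_mul]
    exact Ideal.mul_le_left
  refine isAffine_of_lifts hgen (fun 𝔟 h => hclosed 𝔟 fun h' => h (by simp [h'])) hprod hcov
    (lifts_of_bound q w₀ rfl R s hcov _ fun a ha x hx b => hJlam a x (hle a ha hx) b)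

end Groth.Agent.ChevGen
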