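import Groth.Agent.ModPairLib.Basic
import Mathlib.AlgebraicGeometry.FunctionField
import Mathlib.AlgebraicGeometry.Morphisms.Finite
import Mathlib.AlgebraicGeometry.Morphisms.ClosedImmersion
import Mathlib.AlgebraicGeometry.IdealSheaf.Functorial
import Mathlib.RingTheory.Localization.Ideal
import Mathlib.LinearAlgebra.Basis.VectorSpace
import Mathlib.Topology.Sheaves.SheafCondition.UniqueGluing

/-!
# Chevalley's theorem without Noetherian hypotheses: the integral step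

`q : W → Z` finite surjective, `W` affine, both integral, every proper closed subscheme of `Z` affine.
A linear retraction of `K(Z) → K(W)` maps, after multiplication by a suitable nonzero ideal `J`, the
functions on `q⁻¹U` into those on `U`; hence functions lift from closed subschemes to `Z`.
-/

set_option autoImplicit false
set_option backward.isDefEq.respectTransparency.types false
universe u

open CategoryTheory AlgebraicGeometry TopologicalSpace Opposite
open Scheme (IdealSheafData)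

namespace Groth.Agent.ChevGen

variable {Z W : Scheme.{u}}

/-- Germs at a point are fractions of sections on any affine neighbourhood. -/
theorem exists_mul_mem_range {U : Z.Opens} (hU : IsAffineOpen U) {ξ : Z} (hξ : ξ ∈ U)
    (k : Z.presheaf.stalk ξ) :
    ∃ d : Γ(Z, U), IsUnit (Z.presheaf.germ U ξ hξ d) ∧
      Z.presheaf.germ U ξ hξ d * k ∈ Set.range (Z.presheaf.germ U ξ hξ) := by
  obtain ⟨V, hV, s, rfl⟩ := TopCat.Presheaf.exists_germ_eq Z.presheaf k
  obtain ⟨f, hfV, hξf⟩ := hU.exists_basicOpen_le (V := V) ⟨ξ, hV⟩ hξ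
  letI := (Z.presheaf.map (homOfLE (Z.basicOpen_le f)).op).hom.toAlgebra
  haveI := hU.isLocalization_of_eq_basicOpen f (homOfLE (Z.basicOpen_le f)) rfl
  obtain ⟨⟨a, _, n, rfl⟩, ha⟩ := IsLocalization.surj (Submonoid.powers f)
    (Z.presheaf.map (homOfLE hfV).op s)
  refine ⟨f ^ n, by rw [map_pow]; exact ((Z.mem_basicOpen f ξ hξ).1 hξf).pow n, a, ?_⟩
  have h := congrArg (Z.presheaf.germ (Z.basicOpen f) ξ hξf) ha
  rw [map_mul, RingHom.algebraMap_toAlgebra] at h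
  simp only [TopCat.Presheaf.germ_res_apply] at h
  exact h.symm.trans (mul_comm _ _)

/-- A nonzero function gives an ideal sheaf, not containing the generic point, inside its multiples
on the given affine open. -/
theorem exists_le_span [QuasiSeparatedSpace Z] (U : Z.affineOpens) {ξ : Z} (hξ : ξ ∈ U.1)
    (d : Γ(Z, U.1)) (hd : IsUnit (Z.presheaf.germ U.1 ξ hξ d)) :
    ∃ J : Z.IdealSheafData, ξ ∉ (J.support : Set Z) ∧ J.ideal U ≤ Ideal.span {d} := by
  haveI : CompactSpace U.1 := isCompact_iff_compactSpace.1 U.2.isCompact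
  haveI : CompactSpace (U.1 : Scheme.{u}) := ‹CompactSpace U.1›
  haveI : QuasiCompact U.1.ι := quasiCompact_of_compactSpace U.1.ι
  haveI : IsAffine (U.1 : Scheme.{u}) := U.2
  let I0 : (U.1 : Scheme.{u}).IdealSheafData :=
    Scheme.IdealSheafData.ofIdealTop (Ideal.span {U.1.topIso.inv d})
  have hι : ∀ (hle : (⊤ : (U.1 : Scheme.{u}).Opens) ≤ U.1.ι ⁻¹ᵁ U.1) (x : Γ(Z, U.1)),
      (U.1.ι.appLE U.1 ⊤ hle).hom x = U.1.topIso.inv x := fun hle x => by
    rw [Scheme.Opens.ι_appLE, Scheme.Opens.topIso_inv]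
    rfl
  have hle : (⊤ : (U.1 : Scheme.{u}).Opens) ≤ U.1.ι ⁻¹ᵁ U.1 := by simp
  refine ⟨I0.map U.1.ι, ?_, ?_⟩
  · rw [IdealSheafData.support_map]
    intro hmem
    have hcl : ξ ∈ closure (U.1.ι '' (I0.support : Set (U.1 : Scheme.{u}))) := hmem
    obtain ⟨C, hC, hCeq⟩ := U.1.ι.isOpenEmbedding.isInducing.isClosed_iff.1 I0.support.2
    have hξC : ξ ∈ C := closure_minimal (by
      rintro _ ⟨x, hx, rfl⟩
      have : x ∈ U.1.ι ⁻¹' C := hCeq.symm ▸ hx
      exact this) hC hcl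
    have hξ0 : (⟨ξ, hξ⟩ : (U.1 : Scheme.{u})) ∈ (I0.support : Set (U.1 : Scheme.{u})) := by
      show _ ∈ I0.support.1
      rw [← hCeq]; exact hξC
    rw [IdealSheafData.coe_support_ofIdealTop] at hξ0
    refine (Scheme.mem_zeroLocus_iff _ _ _).1 hξ0 _ (Ideal.mem_span_singleton_self _) ?_
    have hb : (U.1 : Scheme.{u}).basicOpen (U.1.topIso.inv d) = U.1.ι ⁻¹ᵁ Z.basicOpen d := by
      rw [← hι hle d, Scheme.Hom.appLE, ConcreteCategory.comp_apply, Scheme.basicOpen_res,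
        Scheme.Hom.preimage_basicOpen, top_inf_eq]
    rw [hb]
    exact (Z.mem_basicOpen d ξ hξ).2 hd
  · have h := IdealSheafData.comap_map_le I0 U.1.ι ⟨⊤, isAffineOpen_top _⟩
    rw [ModPairLib.ideal_comap _ U.1.ι U ⟨⊤, isAffineOpen_top _⟩ hle,
      IdealSheafData.ofIdealTop_ideal] at h
    intro x hx
    have h1 := h (Ideal.mem_map_of_mem _ hx)
    rw [Ideal.map_span, Set.image_singleton, Ideal.mem_span_singleton] at h1
    obtain ⟨c, hc⟩ := h1
    refine Ideal.mem_span_singleton.2 ⟨U.1.topIso.hom c, ?_⟩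
    rw [hι hle x] at hc
    have := congrArg (fun y => U.1.topIso.hom y) hc
    simp only [map_mul, Iso.inv_hom_id_apply] at this
    refine this.trans ?_
    congr 1
    have hid : (U.1 : Scheme.{u}).presheaf.map (homOfLE (le_top : (⊤ : (U.1 : Scheme.{u}).Opens) ≤ ⊤)).op
        (U.1.topIso.inv d) = U.1.topIso.inv d := by
      rw [show (homOfLE (le_top : (⊤ : (U.1 : Scheme.{u}).Opens) ≤ ⊤)) = 𝟙 _ from Subsingleton.elim _ _,
        op_id, CategoryTheory.Functor.map_id]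
      rfl
    exact (congrArg (fun y => U.1.topIso.hom y) hid).trans (Iso.inv_hom_id_apply _ _)

/-- Chosen data: a function on sections, linear over `Z`. -/
structure Retr (q : W ⟶ Z) (w₀ : W) where
  lam : W.presheaf.stalk w₀ →+ Z.presheaf.stalk (q w₀)
  left : ∀ x, lam ((q.stalkMap w₀).hom x) = x
  lin : ∀ x l, lam ((q.stalkMap w₀).hom x * l) = x * lam l

/-- Affine opens around a point. -/
abbrev Nbhd (ξ : Z) : Type u := {U : Z.affineOpens // ξ ∈ U.1}

theorem hψ (q : W ⟶ Z) (w₀ : W) (U : Z.Opens) (hU : q w₀ ∈ U) (x : Γ(Z, U)) :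
    (q.stalkMap w₀).hom (Z.presheaf.germ U (q w₀) hU x) =
      W.presheaf.germ (q ⁻¹ᵁ U) w₀ hU (q.app U x) :=
  Scheme.Hom.germ_stalkMap_apply q U w₀ hU x

/-- The denominators of the retraction on an affine open are bounded. -/
theorem exists_bound [QuasiSeparatedSpace Z] (q : W ⟶ Z) [IsFinite q] (w₀ : W) (R : Retr q w₀)
    (a : Nbhd (q w₀)) :
    ∃ J : Z.IdealSheafData, q w₀ ∉ (J.support : Set Z) ∧ ∀ x ∈ J.ideal a.1, ∀ b : Γ(W, q ⁻¹ᵁ a.1.1),
        Z.presheaf.germ a.1.1 (q w₀) a.2 x * R.lam (W.presheaf.germ (q ⁻¹ᵁ a.1.1) w₀ a.2 b) ∈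
          (Z.presheaf.germ a.1.1 (q w₀) a.2).hom.range := by
  classical
  letI := (q.app a.1.1).hom.toAlgebra
  haveI : Module.Finite Γ(Z, a.1.1) Γ(W, q ⁻¹ᵁ a.1.1) := IsFinite.finite_app q _ a.1.2
  obtain ⟨t, ht⟩ := Module.Finite.fg_top (R := Γ(Z, a.1.1)) (M := Γ(W, q ⁻¹ᵁ a.1.1))
  choose d hd hd' using fun b : Γ(W, q ⁻¹ᵁ a.1.1) =>
    exists_mul_mem_range a.1.2 a.2 (R.lam (W.presheaf.germ (q ⁻¹ᵁ a.1.1) w₀ a.2 b))
  obtain ⟨J, hJ, hJd⟩ := exists_le_span a.1 a.2 (∏ b ∈ t, d b)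
    (by rw [map_prod]; exact IsUnit.prod_iff.2 fun b _ => hd b)
  refine ⟨J, hJ, fun x hx b => ?_⟩
  obtain ⟨c, rfl⟩ := Ideal.mem_span_singleton.1 (hJd hx)
  have key : ∀ b ∈ Submodule.span Γ(Z, a.1.1) (t : Set Γ(W, q ⁻¹ᵁ a.1.1)),
      Z.presheaf.germ a.1.1 (q w₀) a.2 (∏ b ∈ t, d b) * R.lam (W.presheaf.germ (q ⁻¹ᵁ a.1.1) w₀ a.2 b) ∈
        (Z.presheaf.germ a.1.1 (q w₀) a.2).hom.range := by
    intro b hb
    induction hb using Submodule.span_induction with
    | mem b hb =>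
      rw [← Finset.prod_erase_mul _ _ hb, map_mul, mul_assoc]
      exact mul_mem ⟨_, rfl⟩ (hd' b)
    | zero => simp
    | add b b' _ _ h h' => rw [map_add, map_add, mul_add]; exact add_mem h h'
    | smul r b _ h =>
      rw [Algebra.smul_def, RingHom.algebraMap_toAlgebra, map_mul, ← hψ q w₀ a.1.1 a.2, R.lin, mul_left_comm]
      exact mul_mem ⟨_, rfl⟩ h
  rw [map_mul, mul_comm (Z.presheaf.germ a.1.1 (q w₀) a.2 _), mul_assoc]
  exact mul_mem ⟨_, rfl⟩ (key b (ht.ge trivial))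

/-- `𝔍 * 𝔞` functions lift to `Z` modulo `𝔞`. -/
def Lifts (𝔍 : Z.IdealSheafData) {ξ : Z} (s : Finset (Nbhd ξ)) : Prop :=
  ∀ (𝔞 : Z.IdealSheafData) (t : Γ((𝔍 * 𝔞).subscheme, ⊤)), ∃ h : Γ(Z, ⊤),
    ∀ a ∈ s, ∀ k : Γ(Z, a.1.1),
      (𝔍 * 𝔞).subschemeι.app a.1.1 k =
        (𝔍 * 𝔞).subscheme.presheaf.map (homOfLE le_top).op t →
      Z.presheaf.map (homOfLE le_top).op h - k ∈ 𝔞.ideal a.1

end Groth.Agent.ChevGen
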